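import Mathlib
import Cfsg.Agent.Chars.Apps.Burnside
import Cfsg.Agent.PGroup.UniqueOrderP
import Cfsg.Agent.ZStar.Corollaries

/-!
Groups in which every element outside a normal non-solvable subgroup has prime power order:
the quotient has no two independent commuting elements of the same prime order, hence is solvable.
-/

set_option autoImplicit false

namespace CfsgLib.CPOutside

universe u

variable {G : Type u} [Group G]

/-- The product along a cyclic group of order `t` of a fixed-point-free action is trivial. -/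
theorem norm_eq_one {V : Type*} [CommGroup V] {t : ℕ} [NeZero t] (X : MulAut V) (hX : X ^ t = 1)
    (hfix : ∀ v, X v = v → v = 1) (v : V) : ∏ j ∈ Finset.range t, (X ^ j) v = 1 := by
  refine hfix _ ?_
  obtain ⟨k, rfl⟩ : ∃ k, t = k + 1 := ⟨t - 1, by have := NeZero.ne t; omega⟩
  rw [map_prod, Finset.prod_range_succ, ← MulAut.mul_apply, ← pow_succ', hX, MulAut.one_apply,
    Finset.prod_range_succ' (fun j => (X ^ j) v) k, pow_zero, MulAut.one_apply]
  congr 1
  refine Finset.prod_congr rfl fun j _ => ?_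
  rw [← MulAut.mul_apply, ← pow_succ']

/-- Two independent commuting fixed-point-free automorphisms of order `s` force `v ^ s = 1`. -/
theorem pow_eq_one_of_pair {V : Type*} [CommGroup V] {s : ℕ} [NeZero s] (A B : MulAut V)
    (hA : A ^ s = 1) (hB : B ^ s = 1) (hAB : Commute A B)
    (h1 : ∀ i < s, ∀ v, (A * B ^ i) v = v → v = 1)
    (h2 : ∀ j, 0 < j → j < s → ∀ v, (B ^ j) v = v → v = 1) (v : V) : v ^ s = 1 := by
  have e : ∏ i ∈ Finset.range s, ∏ j ∈ Finset.range s, ((A * B ^ i) ^ j) v = 1 := by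
    refine Finset.prod_eq_one fun i hi => norm_eq_one _ ?_ (h1 i (Finset.mem_range.mp hi)) v
    rw [(hAB.pow_right i).mul_pow, hA, one_mul, ← pow_mul, mul_comm, pow_mul, hB, one_pow]
  rw [Finset.prod_comm] at e
  obtain ⟨k, hk⟩ : ∃ k, s = k + 1 := ⟨s - 1, by have := NeZero.ne s; omega⟩
  rw [hk, Finset.prod_range_succ'] at e
  simp only [pow_zero, MulAut.one_apply, Finset.prod_const, Finset.card_range] at e
  rw [← hk] at e
  rw [Finset.prod_eq_one, one_mul] at e
  · exact e
  intro j hj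
  have hj' : j + 1 < s := by have := Finset.mem_range.mp hj; omega
  calc ∏ i ∈ Finset.range s, ((A * B ^ i) ^ (j + 1)) v
      = ∏ i ∈ Finset.range s, ((B ^ (j + 1)) ^ i) ((A ^ (j + 1)) v) := by
        refine Finset.prod_congr rfl fun i _ => ?_
        rw [(hAB.pow_right i).mul_pow, ← pow_mul, mul_comm i, pow_mul,
          (((hAB.pow_right _).pow_right _).pow_left _).eq, MulAut.mul_apply]
    _ = 1 := by
        refine norm_eq_one _ ?_ (h2 _ (by omega) hj') _
        rw [← pow_mul, mul_comm, pow_mul, hB, one_pow]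

/-- The kernel of a Frobenius group acts trivially if the complement is fixed point free. -/
theorem fixed_of_frobenius {V : Type*} [CommGroup V] [Finite V] {t : ℕ} [Fact t.Prime]
    (Z : Subgroup (MulAut V)) (hcomm : ∀ a ∈ Z, ∀ b ∈ Z, Commute a b)
    (hcop : (Nat.card Z).Coprime (Nat.card V)) (X : MulAut V) (hX : X ^ t = 1)
    (hnorm : ∀ z ∈ Z, X * z * X⁻¹ ∈ Z) (hfree : ∀ z ∈ Z, Commute z X → z = 1)
    (hfix : ∀ v, X v = v → v = 1) {z : MulAut V} (hz : z ∈ Z) : z = 1 := by
  haveI : Finite (MulAut V) := Finite.of_injective (fun f => (f : V → V)) DFunLike.coe_injective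
  haveI : Fintype Z := Fintype.ofFinite _
  haveI : NeZero t := ⟨(Fact.out : t.Prime).ne_zero⟩
  have hnormj : ∀ (j : ℕ) (w : MulAut V), w ∈ Z → X ^ j * w * (X ^ j)⁻¹ ∈ Z := by
    intro j
    induction j with
    | zero => intro w hw; simpa using hw
    | succ j ih =>
      intro w hw
      have := hnorm _ (ih w hw)
      rw [pow_succ', mul_inv_rev]
      simpa [mul_assoc] using this
  refine MulEquiv.ext fun v => ?_
  have e : ∏ w : Z, ∏ j ∈ Finset.range t, ((w : MulAut V) * X ^ j * (w : MulAut V)⁻¹) v = 1 := by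
    refine Finset.prod_eq_one fun w _ => ?_
    have hw := norm_eq_one ((w : MulAut V) * X * (w : MulAut V)⁻¹)
      (by rw [conj_pow, hX, mul_one, mul_inv_cancel])
      (fun u hu => by
        have h1 : X ((w : MulAut V)⁻¹ u) = (w : MulAut V)⁻¹ u := by
          rw [MulAut.mul_apply, MulAut.mul_apply] at hu
          have := congrArg (fun y => (w : MulAut V)⁻¹ y) hu
          simpa [MulAut.inv_apply_self] using this
        have h2 := congrArg (w : MulAut V) (hfix _ h1)
        simpa [MulAut.apply_inv_self] using h2) v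
    simpa [conj_pow] using hw
  rw [Finset.prod_comm] at e
  obtain ⟨k, hk⟩ : ∃ k, t = k + 1 := ⟨t - 1, by have := (Fact.out : t.Prime).one_le; omega⟩
  rw [hk, Finset.prod_range_succ'] at e
  simp only [pow_zero, mul_one, mul_inv_cancel, MulAut.one_apply, Finset.prod_const,
    Finset.card_univ] at e
  have hP : ∀ j ∈ Finset.range k,
      z (∏ w : Z, ((w : MulAut V) * X ^ (j + 1) * (w : MulAut V)⁻¹) v) =
        ∏ w : Z, ((w : MulAut V) * X ^ (j + 1) * (w : MulAut V)⁻¹) v := by
    intro j hj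
    set g : Z → Z := fun w => ⟨(w : MulAut V) * (X ^ (j + 1) * (w : MulAut V)⁻¹ * (X ^ (j + 1))⁻¹),
      Z.mul_mem w.2 (hnormj (j + 1) _ (Z.inv_mem w.2))⟩
    have hpow : ∀ w : MulAut V, w ∈ Z → Commute w (X ^ (j + 1)) → w = 1 := by
      intro w hw hwc
      refine hfree w hw ?_
      have hcop' : (j + 1).Coprime t := by
        refine ((Fact.out : t.Prime).coprime_iff_not_dvd.mpr fun hd => ?_).symm
        have := Nat.le_of_dvd (by omega) hd
        have := Finset.mem_range.mp hj
        omega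
      have hXt : orderOf X ∣ t := orderOf_dvd_of_pow_eq_one hX
      obtain ⟨m, hm⟩ := exists_pow_eq_self_of_coprime (hcop'.coprime_dvd_right hXt)
      rw [← hm]
      exact hwc.pow_right m
    have hg : Function.Bijective g := by
      refine Finite.injective_iff_bijective.mp fun a b hab => ?_
      have h1 : (a : MulAut V) * (X ^ (j + 1) * (a : MulAut V)⁻¹ * (X ^ (j + 1))⁻¹) =
          (b : MulAut V) * (X ^ (j + 1) * (b : MulAut V)⁻¹ * (X ^ (j + 1))⁻¹) := congrArg Subtype.val hab
      have h2 : ((b : MulAut V)⁻¹ * a) * X ^ (j + 1) = X ^ (j + 1) * ((b : MulAut V)⁻¹ * a) := by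
        have h3 : (b : MulAut V)⁻¹ * a * (X ^ (j + 1) * (a : MulAut V)⁻¹) = X ^ (j + 1) * (b : MulAut V)⁻¹ := by
          have := congrArg (fun y => (b : MulAut V)⁻¹ * y * X ^ (j + 1)) h1
          simpa [mul_assoc] using this
        have := congrArg (fun y => y * (a : MulAut V)) h3
        simpa [mul_assoc] using this
      exact (Subtype.ext (inv_mul_eq_one.mp (hpow _ (Z.mul_mem (Z.inv_mem b.2) a.2) h2))).symm
    have e2 : ∏ w : Z, ((w : MulAut V) * X ^ (j + 1) * (w : MulAut V)⁻¹) v =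
        ∏ w : Z, (w : MulAut V) ((X ^ (j + 1)) v) := by
      refine Eq.trans ?_ (Fintype.prod_bijective g hg _ _ fun w => rfl)
      refine Finset.prod_congr rfl fun w _ => ?_
      show _ = ((w : MulAut V) * (X ^ (j + 1) * (w : MulAut V)⁻¹ * (X ^ (j + 1))⁻¹) * X ^ (j + 1)) v
      congr 1
      group
    rw [e2, map_prod]
    refine Fintype.prod_bijective (fun w => ⟨z, hz⟩ * w) (Group.mulLeft_bijective _) _ _ fun w => ?_
    rfl
  have hfz := congrArg z e
  rw [map_one, map_mul, map_prod, Finset.prod_congr rfl hP, map_pow, ← e, mul_right_inj,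
    ← Nat.card_eq_fintype_card] at hfz
  exact (powCoprime hcop.symm).injective hfz

/-- A nontrivial normal subgroup of a nilpotent group meets the centre. -/
theorem inf_center_ne_bot_of_nilpotent (L : Type*) [Group L] [Group.IsNilpotent L] (K : Subgroup L)
    [K.Normal] (hK : K ≠ ⊥) : K ⊓ Subgroup.center L ≠ ⊥ := by
  obtain ⟨n, hn⟩ := Group.IsNilpotent.nilpotent L
  have key : ∀ m, K ⊓ Subgroup.upperCentralSeries L m ≠ ⊥ → K ⊓ Subgroup.center L ≠ ⊥ := by
    intro m
    induction m with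
    | zero => simp
    | succ m ih =>
      intro hm
      by_cases h : K ⊓ Subgroup.upperCentralSeries L m = ⊥
      · intro hc
        refine hm (eq_bot_iff.mpr fun x hx => hc ▸ ⟨hx.1, Subgroup.mem_center_iff.mpr fun y => ?_⟩)
        have h1 : x * y * x⁻¹ * y⁻¹ ∈ K ⊓ Subgroup.upperCentralSeries L m := by
          refine ⟨?_, (Subgroup.mem_upperCentralSeries_succ_iff.mp hx.2) y⟩
          rw [show x * y * x⁻¹ * y⁻¹ = x * (y * x⁻¹ * y⁻¹) by group]
          exact mul_mem hx.1 (Subgroup.Normal.conj_mem inferInstance _ (inv_mem hx.1) y)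
        rw [h, Subgroup.mem_bot] at h1
        exact (mul_inv_eq_one.mp (by simpa [mul_assoc] using h1 : x * y * (y * x)⁻¹ = 1)).symm
      · exact ih h
  exact key n (by rw [hn, inf_top_eq]; exact hK)

variable [Finite G] {N : Subgroup G}

/-- An element outside `N` with image of `s`-power order commutes with no element of `N` of another
prime order. -/
theorem not_commute (h : ∀ x : G, x ∉ N → IsPrimePow (orderOf x)) {x v : G} (hx : x ∉ N)
    {s r : ℕ} (hs : s.Prime) (hr : r.Prime) (hsr : s ≠ r) (hxs : x ^ s ∈ N) (hv : v ∈ N)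
    (hvr : ∃ k, v ^ r ^ k = 1) (hc : Commute x v) : v = 1 := by
  by_contra hne
  obtain ⟨k, hk⟩ := hvr
  obtain ⟨i, hik, hi⟩ := (Nat.dvd_prime_pow hr).mp (orderOf_dvd_of_pow_eq_one hk)
  obtain ⟨p, a, hp, ha, hpa⟩ := (isPrimePow_nat_iff _).mp (h x hx)
  have hps : p = s := by
    by_contra hps
    refine hx ?_
    have hcop : (orderOf x).Coprime s := by
      rw [← hpa]; exact ((Nat.coprime_primes hp hs).mpr hps).pow_left a
    obtain ⟨m, hm⟩ := exists_pow_eq_self_of_coprime hcop.symm
    rw [← hm]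
    exact pow_mem hxs m
  have hcop : (orderOf x).Coprime (orderOf v) := by
    rw [← hpa, hi, hps]; exact Nat.Coprime.pow _ _ ((Nat.coprime_primes hs hr).mpr hsr)
  have hxv : x * v ∉ N := fun hh => hx ((Subgroup.mul_mem_cancel_right _ hv).mp hh)
  obtain ⟨p', b, hp', hb, hpb⟩ := (isPrimePow_nat_iff _).mp (h _ hxv)
  rw [hc.orderOf_mul_eq_mul_orderOf_of_coprime hcop, ← hpa, hi, hps] at hpb
  have hi0 : i ≠ 0 := fun h0 => hne (orderOf_eq_one_iff.mp (by rw [hi, h0, pow_zero]))
  have d1 : s ∣ p' ^ b := hpb ▸ dvd_mul_of_dvd_left (dvd_pow_self s ha.ne') _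
  have d2 : r ∣ p' ^ b := hpb ▸ dvd_mul_of_dvd_right (dvd_pow_self r hi0) _
  exact hsr (((Nat.prime_dvd_prime_iff_eq hs hp').mp (hs.dvd_of_dvd_pow d1)).trans
    ((Nat.prime_dvd_prime_iff_eq hr hp').mp (hr.dvd_of_dvd_pow d2)).symm)

/-- The setting: `V` is a normal abelian `r`-subgroup of a supplement `M`, centralised by `M ∩ N`. -/
theorem no_pair [N.Normal] (h : ∀ x : G, x ∉ N → IsPrimePow (orderOf x)) (M V : Subgroup G)
    (hMV : M ≤ Subgroup.normalizer (V : Set G)) (hMN : M ⊔ N = ⊤) (hVN : V ≤ N) (hV1 : V ≠ ⊥)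
    (hVc : ∀ a ∈ V, ∀ b ∈ V, a * b = b * a) {s r : ℕ} (hs : s.Prime) (hr : r.Prime) (hsr : s ≠ r)
    (hVr : IsPGroup r V) (hL : ∀ l ∈ M, l ∈ N → ∀ v ∈ V, l * v = v * l) (a b : G ⧸ N)
    (ha : orderOf a = s) (hb : orderOf b = s) (hab : Commute a b) : b ∈ Subgroup.zpowers a := by
  by_contra hba
  haveI : Fact s.Prime := ⟨hs⟩
  haveI : NeZero s := ⟨hs.ne_zero⟩
  haveI : Fact r.Prime := ⟨hr⟩
  letI : CommGroup V :=
    { (inferInstance : Group V) with mul_comm := fun a b => Subtype.ext (hVc a a.2 b b.2) }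
  let π : M →* G ⧸ N := (QuotientGroup.mk' N).comp M.subtype
  have hπ : Function.Surjective π := by
    intro q
    obtain ⟨g, rfl⟩ := QuotientGroup.mk'_surjective N q
    have hg : g ∈ ((M ⊔ N : Subgroup G) : Set G) := by rw [hMN]; trivial
    rw [Subgroup.mul_normal M N] at hg
    obtain ⟨m, hm, n, hn, rfl⟩ := hg
    refine ⟨⟨m, hm⟩, (QuotientGroup.eq.mpr ?_)⟩
    simpa using hn
  let φ : M →* MulAut V := (V.normalizerMonoidHom).comp (Subgroup.inclusion hMV)
  have hker : ∀ m : M, π m = 1 → φ m = 1 := by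
    intro m hm
    refine MulEquiv.ext fun v => Subtype.ext ?_
    show (m : G) * (v : G) * (m : G)⁻¹ = v
    rw [hL m m.2 ((QuotientGroup.eq_one_iff _).mp hm) v v.2, mul_inv_cancel_right]
  have hlift : ∀ m m' : M, π m = π m' → φ m = φ m' := fun m m' e => by
    have := hker (m⁻¹ * m') (by rw [map_mul, map_inv, e, inv_mul_cancel])
    rw [map_mul, map_inv, inv_mul_eq_one] at this
    exact this
  have hfree : ∀ m : M, π m ≠ 1 → π m ^ s = 1 → ∀ v : V, φ m v = v → v = 1 := by
    intro m hm hms v hv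
    have hv' : (m : G) * (v : G) * (m : G)⁻¹ = v := congrArg Subtype.val hv
    refine Subtype.ext (not_commute h (fun hh => hm ((QuotientGroup.eq_one_iff _).mpr hh)) hs hr hsr
      ?_ (hVN v.2) ?_ (mul_inv_eq_iff_eq_mul.mp hv'))
    · rw [← map_pow] at hms
      exact (QuotientGroup.eq_one_iff _).mp hms
    · obtain ⟨k, hk⟩ := hVr v
      exact ⟨k, congrArg Subtype.val hk⟩
  obtain ⟨A, hA⟩ := hπ a
  obtain ⟨B, hB⟩ := hπ b
  have hAs : a ^ s = 1 := ha ▸ pow_orderOf_eq_one a
  have hBs : b ^ s = 1 := hb ▸ pow_orderOf_eq_one b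
  have key := pow_eq_one_of_pair (φ A) (φ B) (s := s)
    (by rw [← map_pow]; exact hker _ (by rw [map_pow, hA, hAs]))
    (by rw [← map_pow]; exact hker _ (by rw [map_pow, hB, hBs]))
    (by
      show φ A * φ B = φ B * φ A
      rw [← map_mul, ← map_mul]
      exact hlift _ _ (by rw [map_mul, map_mul, hA, hB, hab.eq]))
    (fun i hi v hv => by
      rw [← map_pow, ← map_mul] at hv
      refine hfree _ ?_ ?_ v hv
      · rw [map_mul, map_pow, hA, hB]
        intro he
        by_cases hi0 : i = 0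
        · rw [hi0, pow_zero, mul_one] at he
          rw [he, orderOf_one] at ha
          exact hs.ne_one ha.symm
        · refine hba ?_
          have hcop : i.Coprime (orderOf b) := by
            rw [hb]
            exact (hs.coprime_iff_not_dvd.mpr fun hd => absurd (Nat.le_of_dvd (by omega) hd) (by omega)).symm
          obtain ⟨m, hm⟩ := exists_pow_eq_self_of_coprime hcop
          rw [← hm, eq_inv_of_mul_eq_one_right he]
          exact pow_mem (inv_mem (Subgroup.mem_zpowers a)) m
      · rw [map_mul, map_pow, hA, hB, (hab.pow_right i).mul_pow, hAs, one_mul, ← pow_mul, mul_comm,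
          pow_mul, hBs, one_pow])
    (fun j hj0 hj v hv => by
      rw [← map_pow] at hv
      refine hfree _ ?_ ?_ v hv
      · rw [map_pow, hB]
        intro he
        exact absurd (Nat.le_of_dvd hj0 (hb ▸ orderOf_dvd_of_pow_eq_one he)) (by omega)
      · rw [map_pow, hB, ← pow_mul, mul_comm, pow_mul, hBs, one_pow])
  obtain ⟨v, hv, hv1⟩ := (Subgroup.bot_or_exists_ne_one V).resolve_left hV1
  have h1 : (⟨v, hv⟩ : V) ^ s = 1 := key ⟨v, hv⟩
  obtain ⟨k, hk⟩ := hVr ⟨v, hv⟩
  have hd := Nat.dvd_gcd (orderOf_dvd_of_pow_eq_one h1) (orderOf_dvd_of_pow_eq_one hk)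
  rw [Nat.Coprime.gcd_eq_one (((Nat.coprime_primes hs hr).mpr hsr).pow_right k), Nat.dvd_one,
    orderOf_eq_one_iff] at hd
  exact hv1 (congrArg Subtype.val hd)

end CfsgLib.CPOutside
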